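import Cfsg.Agent.Lib.CosetEnum.Fi22O7.Data

/-!
# Checks for Fi22O7
-/

set_option autoImplicit false

namespace Cfsg.Agent.Lib.CosetEnum.Fi22O7

open Cfsg.Agent.Lib.CosetEnum

theorem items_chunk0 : allUpTo cert.itemOk 0 8000 = true := by decide +kernel

theorem items_chunk1 : allUpTo cert.itemOk 8000 8000 = true := by decide +kernel

theorem items_chunk2 : allUpTo cert.itemOk 16000 8000 = true := by decide +kernel

theorem items_chunk3 : allUpTo cert.itemOk 24000 8000 = true := by decide +kernel

end Cfsg.Agent.Lib.CosetEnum.Fi22O7
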