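import Cfsg.Agent.Lib.CosetEnum.Fi22O7.Data

/-!
# Checks for Fi22O7
-/

set_option autoImplicit false

namespace Cfsg.Agent.Lib.CosetEnum.Fi22O7

open Cfsg.Agent.Lib.CosetEnum

theorem rels_chunk47 : allUpTo cert.relOk 5405 115 = true := by decide +kernel

theorem rels_chunk48 : allUpTo cert.relOk 5520 115 = true := by decide +kernel

theorem rels_chunk49 : allUpTo cert.relOk 5635 115 = true := by decide +kernel

theorem rels_chunk50 : allUpTo cert.relOk 5750 115 = true := by decide +kernel

end Cfsg.Agent.Lib.CosetEnum.Fi22O7
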