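import Cfsg.Agent.Lib.CosetEnum.Fi22O7.Data

/-!
# Checks for Fi22O7
-/

set_option autoImplicit false

namespace Cfsg.Agent.Lib.CosetEnum.Fi22O7

open Cfsg.Agent.Lib.CosetEnum

theorem rels_chunk59 : allUpTo cert.relOk 6785 115 = true := by decide +kernel

theorem rels_chunk60 : allUpTo cert.relOk 6900 115 = true := by decide +kernel

theorem rels_chunk61 : allUpTo cert.relOk 7015 115 = true := by decide +kernel

theorem rels_chunk62 : allUpTo cert.relOk 7130 115 = true := by decide +kernel

end Cfsg.Agent.Lib.CosetEnum.Fi22O7
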