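import Cfsg.Agent.Lib.CosetEnum.Fi22O7.Data

/-!
# Checks for Fi22O7
-/

set_option autoImplicit false

namespace Cfsg.Agent.Lib.CosetEnum.Fi22O7

open Cfsg.Agent.Lib.CosetEnum

theorem rels_chunk67 : allUpTo cert.relOk 7705 115 = true := by decide +kernel

theorem rels_chunk68 : allUpTo cert.relOk 7820 115 = true := by decide +kernel

theorem rels_chunk69 : allUpTo cert.relOk 7935 115 = true := by decide +kernel

theorem rels_chunk70 : allUpTo cert.relOk 8050 115 = true := by decide +kernel

end Cfsg.Agent.Lib.CosetEnum.Fi22O7
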