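import Cfsg.Agent.Lib.CosetEnum.Fi22O7.Data

/-!
# Checks for Fi22O7
-/

set_option autoImplicit false

namespace Cfsg.Agent.Lib.CosetEnum.Fi22O7

open Cfsg.Agent.Lib.CosetEnum

theorem items_chunk16 : allUpTo cert.itemOk 128000 3784 = true := by decide +kernel

theorem close_chunk0 : allUpTo cert.closeOk 0 444 = true := by decide +kernel

theorem close_chunk1 : allUpTo cert.closeOk 444 444 = true := by decide +kernel

theorem close_chunk2 : allUpTo cert.closeOk 888 444 = true := by decide +kernel

end Cfsg.Agent.Lib.CosetEnum.Fi22O7
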