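import Cfsg.Agent.Lib.CosetEnum.Fi22O7.Data

/-!
# Checks for Fi22O7
-/

set_option autoImplicit false

namespace Cfsg.Agent.Lib.CosetEnum.Fi22O7

open Cfsg.Agent.Lib.CosetEnum

theorem rels_chunk115 : allUpTo cert.relOk 13225 115 = true := by decide +kernel

theorem rels_chunk116 : allUpTo cert.relOk 13340 115 = true := by decide +kernel

theorem rels_chunk117 : allUpTo cert.relOk 13455 115 = true := by decide +kernel

theorem rels_chunk118 : allUpTo cert.relOk 13570 115 = true := by decide +kernel

end Cfsg.Agent.Lib.CosetEnum.Fi22O7
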