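import Cfsg.Agent.Lib.CosetEnum.Fi22O7.Data

/-!
# Checks for Fi22O7
-/

set_option autoImplicit false

namespace Cfsg.Agent.Lib.CosetEnum.Fi22O7

open Cfsg.Agent.Lib.CosetEnum

theorem close_chunk3 : allUpTo cert.closeOk 1332 444 = true := by decide +kernel

theorem close_chunk4 : allUpTo cert.closeOk 1776 444 = true := by decide +kernel

theorem close_chunk5 : allUpTo cert.closeOk 2220 444 = true := by decide +kernel

theorem close_chunk6 : allUpTo cert.closeOk 2664 444 = true := by decide +kernel

end Cfsg.Agent.Lib.CosetEnum.Fi22O7
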