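import Cfsg.Agent.Lib.CosetEnum.Close
import Cfsg.Agent.Lib.CosetEnum.Fi22O7.Check0
import Cfsg.Agent.Lib.CosetEnum.Fi22O7.Check1
import Cfsg.Agent.Lib.CosetEnum.Fi22O7.Check2
import Cfsg.Agent.Lib.CosetEnum.Fi22O7.Check3
import Cfsg.Agent.Lib.CosetEnum.Fi22O7.Check4
import Cfsg.Agent.Lib.CosetEnum.Fi22O7.Check5
import Cfsg.Agent.Lib.CosetEnum.Fi22O7.Check6
import Cfsg.Agent.Lib.CosetEnum.Fi22O7.Check7
import Cfsg.Agent.Lib.CosetEnum.Fi22O7.Check8
import Cfsg.Agent.Lib.CosetEnum.Fi22O7.Check9
import Cfsg.Agent.Lib.CosetEnum.Fi22O7.Check10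
import Cfsg.Agent.Lib.CosetEnum.Fi22O7.Check11
import Cfsg.Agent.Lib.CosetEnum.Fi22O7.Check12
import Cfsg.Agent.Lib.CosetEnum.Fi22O7.Check13
import Cfsg.Agent.Lib.CosetEnum.Fi22O7.Check14
import Cfsg.Agent.Lib.CosetEnum.Fi22O7.Check15
import Cfsg.Agent.Lib.CosetEnum.Fi22O7.Check16
import Cfsg.Agent.Lib.CosetEnum.Fi22O7.Check17
import Cfsg.Agent.Lib.CosetEnum.Fi22O7.Check18
import Cfsg.Agent.Lib.CosetEnum.Fi22O7.Check19
import Cfsg.Agent.Lib.CosetEnum.Fi22O7.Check20
import Cfsg.Agent.Lib.CosetEnum.Fi22O7.Check21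
import Cfsg.Agent.Lib.CosetEnum.Fi22O7.Check22
import Cfsg.Agent.Lib.CosetEnum.Fi22O7.Check23
import Cfsg.Agent.Lib.CosetEnum.Fi22O7.Check24
import Cfsg.Agent.Lib.CosetEnum.Fi22O7.Check25
import Cfsg.Agent.Lib.CosetEnum.Fi22O7.Check26
import Cfsg.Agent.Lib.CosetEnum.Fi22O7.Check27
import Cfsg.Agent.Lib.CosetEnum.Fi22O7.Check28
import Cfsg.Agent.Lib.CosetEnum.Fi22O7.Check29
import Cfsg.Agent.Lib.CosetEnum.Fi22O7.Check30
import Cfsg.Agent.Lib.CosetEnum.Fi22O7.Check31
import Cfsg.Agent.Lib.CosetEnum.Fi22O7.Check32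
import Cfsg.Agent.Lib.CosetEnum.Fi22O7.Check33
import Cfsg.Agent.Lib.CosetEnum.Fi22O7.Check34
import Cfsg.Agent.Lib.CosetEnum.Fi22O7.Check35
import Cfsg.Agent.Lib.CosetEnum.Fi22O7.Check36
import Cfsg.Agent.Lib.CosetEnum.Fi22O7.Check37
import Cfsg.Agent.Lib.CosetEnum.Fi22O7.Check38
import Cfsg.Agent.Lib.CosetEnum.Fi22O7.Check39
import Cfsg.Agent.Lib.CosetEnum.Fi22O7.Check40
import Cfsg.Agent.Lib.CosetEnum.Fi22O7.Check41
import Cfsg.Agent.Lib.CosetEnum.Fi22O7.Check42
import Cfsg.Agent.Lib.CosetEnum.Fi22O7.Check43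

/-!
# The certificate for Fi22O7 is correct
-/

set_option autoImplicit false

namespace Cfsg.Agent.Lib.CosetEnum.Fi22O7

open Cfsg.Agent.Lib.CosetEnum

theorem items_upTo0 : ∀ i < 0 + 8000, cert.itemOk i = true :=
  allUpTo_append (n := 0) (fun i hi => absurd hi (Nat.not_lt_zero i)) items_chunk0

theorem items_upTo1 : ∀ i < 8000 + 8000, cert.itemOk i = true :=
  allUpTo_append (n := 8000) items_upTo0 items_chunk1

theorem items_upTo2 : ∀ i < 16000 + 8000, cert.itemOk i = true :=
  allUpTo_append (n := 16000) items_upTo1 items_chunk2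

theorem items_upTo3 : ∀ i < 24000 + 8000, cert.itemOk i = true :=
  allUpTo_append (n := 24000) items_upTo2 items_chunk3

theorem items_upTo4 : ∀ i < 32000 + 8000, cert.itemOk i = true :=
  allUpTo_append (n := 32000) items_upTo3 items_chunk4

theorem items_upTo5 : ∀ i < 40000 + 8000, cert.itemOk i = true :=
  allUpTo_append (n := 40000) items_upTo4 items_chunk5

theorem items_upTo6 : ∀ i < 48000 + 8000, cert.itemOk i = true :=
  allUpTo_append (n := 48000) items_upTo5 items_chunk6

theorem items_upTo7 : ∀ i < 56000 + 8000, cert.itemOk i = true :=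
  allUpTo_append (n := 56000) items_upTo6 items_chunk7

theorem items_upTo8 : ∀ i < 64000 + 8000, cert.itemOk i = true :=
  allUpTo_append (n := 64000) items_upTo7 items_chunk8

theorem items_upTo9 : ∀ i < 72000 + 8000, cert.itemOk i = true :=
  allUpTo_append (n := 72000) items_upTo8 items_chunk9

theorem items_upTo10 : ∀ i < 80000 + 8000, cert.itemOk i = true :=
  allUpTo_append (n := 80000) items_upTo9 items_chunk10

theorem items_upTo11 : ∀ i < 88000 + 8000, cert.itemOk i = true :=
  allUpTo_append (n := 88000) items_upTo10 items_chunk11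

theorem items_upTo12 : ∀ i < 96000 + 8000, cert.itemOk i = true :=
  allUpTo_append (n := 96000) items_upTo11 items_chunk12

theorem items_upTo13 : ∀ i < 104000 + 8000, cert.itemOk i = true :=
  allUpTo_append (n := 104000) items_upTo12 items_chunk13

theorem items_upTo14 : ∀ i < 112000 + 8000, cert.itemOk i = true :=
  allUpTo_append (n := 112000) items_upTo13 items_chunk14

theorem items_upTo15 : ∀ i < 120000 + 8000, cert.itemOk i = true :=
  allUpTo_append (n := 120000) items_upTo14 items_chunk15

theorem items_upTo16 : ∀ i < 128000 + 3784, cert.itemOk i = true :=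
  allUpTo_append (n := 128000) items_upTo15 items_chunk16

theorem close_upTo0 : ∀ i < 0 + 444, cert.closeOk i = true :=
  allUpTo_append (n := 0) (fun i hi => absurd hi (Nat.not_lt_zero i)) close_chunk0

theorem close_upTo1 : ∀ i < 444 + 444, cert.closeOk i = true :=
  allUpTo_append (n := 444) close_upTo0 close_chunk1

theorem close_upTo2 : ∀ i < 888 + 444, cert.closeOk i = true :=
  allUpTo_append (n := 888) close_upTo1 close_chunk2

theorem close_upTo3 : ∀ i < 1332 + 444, cert.closeOk i = true :=
  allUpTo_append (n := 1332) close_upTo2 close_chunk3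

theorem close_upTo4 : ∀ i < 1776 + 444, cert.closeOk i = true :=
  allUpTo_append (n := 1776) close_upTo3 close_chunk4

theorem close_upTo5 : ∀ i < 2220 + 444, cert.closeOk i = true :=
  allUpTo_append (n := 2220) close_upTo4 close_chunk5

theorem close_upTo6 : ∀ i < 2664 + 444, cert.closeOk i = true :=
  allUpTo_append (n := 2664) close_upTo5 close_chunk6

theorem close_upTo7 : ∀ i < 3108 + 444, cert.closeOk i = true :=
  allUpTo_append (n := 3108) close_upTo6 close_chunk7

theorem close_upTo8 : ∀ i < 3552 + 444, cert.closeOk i = true :=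
  allUpTo_append (n := 3552) close_upTo7 close_chunk8

theorem close_upTo9 : ∀ i < 3996 + 444, cert.closeOk i = true :=
  allUpTo_append (n := 3996) close_upTo8 close_chunk9

theorem close_upTo10 : ∀ i < 4440 + 444, cert.closeOk i = true :=
  allUpTo_append (n := 4440) close_upTo9 close_chunk10

theorem close_upTo11 : ∀ i < 4884 + 444, cert.closeOk i = true :=
  allUpTo_append (n := 4884) close_upTo10 close_chunk11

theorem close_upTo12 : ∀ i < 5328 + 444, cert.closeOk i = true :=
  allUpTo_append (n := 5328) close_upTo11 close_chunk12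

theorem close_upTo13 : ∀ i < 5772 + 444, cert.closeOk i = true :=
  allUpTo_append (n := 5772) close_upTo12 close_chunk13

theorem close_upTo14 : ∀ i < 6216 + 444, cert.closeOk i = true :=
  allUpTo_append (n := 6216) close_upTo13 close_chunk14

theorem close_upTo15 : ∀ i < 6660 + 444, cert.closeOk i = true :=
  allUpTo_append (n := 6660) close_upTo14 close_chunk15

theorem close_upTo16 : ∀ i < 7104 + 444, cert.closeOk i = true :=
  allUpTo_append (n := 7104) close_upTo15 close_chunk16

theorem close_upTo17 : ∀ i < 7548 + 444, cert.closeOk i = true :=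
  allUpTo_append (n := 7548) close_upTo16 close_chunk17

theorem close_upTo18 : ∀ i < 7992 + 444, cert.closeOk i = true :=
  allUpTo_append (n := 7992) close_upTo17 close_chunk18

theorem close_upTo19 : ∀ i < 8436 + 444, cert.closeOk i = true :=
  allUpTo_append (n := 8436) close_upTo18 close_chunk19

theorem close_upTo20 : ∀ i < 8880 + 444, cert.closeOk i = true :=
  allUpTo_append (n := 8880) close_upTo19 close_chunk20

theorem close_upTo21 : ∀ i < 9324 + 444, cert.closeOk i = true :=
  allUpTo_append (n := 9324) close_upTo20 close_chunk21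

theorem close_upTo22 : ∀ i < 9768 + 444, cert.closeOk i = true :=
  allUpTo_append (n := 9768) close_upTo21 close_chunk22

theorem close_upTo23 : ∀ i < 10212 + 444, cert.closeOk i = true :=
  allUpTo_append (n := 10212) close_upTo22 close_chunk23

theorem close_upTo24 : ∀ i < 10656 + 444, cert.closeOk i = true :=
  allUpTo_append (n := 10656) close_upTo23 close_chunk24

theorem close_upTo25 : ∀ i < 11100 + 444, cert.closeOk i = true :=
  allUpTo_append (n := 11100) close_upTo24 close_chunk25

theorem close_upTo26 : ∀ i < 11544 + 444, cert.closeOk i = true :=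
  allUpTo_append (n := 11544) close_upTo25 close_chunk26

theorem close_upTo27 : ∀ i < 11988 + 444, cert.closeOk i = true :=
  allUpTo_append (n := 11988) close_upTo26 close_chunk27

theorem close_upTo28 : ∀ i < 12432 + 444, cert.closeOk i = true :=
  allUpTo_append (n := 12432) close_upTo27 close_chunk28

theorem close_upTo29 : ∀ i < 12876 + 444, cert.closeOk i = true :=
  allUpTo_append (n := 12876) close_upTo28 close_chunk29

theorem close_upTo30 : ∀ i < 13320 + 444, cert.closeOk i = true :=
  allUpTo_append (n := 13320) close_upTo29 close_chunk30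

theorem close_upTo31 : ∀ i < 13764 + 316, cert.closeOk i = true :=
  allUpTo_append (n := 13764) close_upTo30 close_chunk31

theorem rels_upTo0 : ∀ i < 0 + 115, cert.relOk i = true :=
  allUpTo_append (n := 0) (fun i hi => absurd hi (Nat.not_lt_zero i)) rels_chunk0

theorem rels_upTo1 : ∀ i < 115 + 115, cert.relOk i = true :=
  allUpTo_append (n := 115) rels_upTo0 rels_chunk1

theorem rels_upTo2 : ∀ i < 230 + 115, cert.relOk i = true :=
  allUpTo_append (n := 230) rels_upTo1 rels_chunk2

theorem rels_upTo3 : ∀ i < 345 + 115, cert.relOk i = true :=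
  allUpTo_append (n := 345) rels_upTo2 rels_chunk3

theorem rels_upTo4 : ∀ i < 460 + 115, cert.relOk i = true :=
  allUpTo_append (n := 460) rels_upTo3 rels_chunk4

theorem rels_upTo5 : ∀ i < 575 + 115, cert.relOk i = true :=
  allUpTo_append (n := 575) rels_upTo4 rels_chunk5

theorem rels_upTo6 : ∀ i < 690 + 115, cert.relOk i = true :=
  allUpTo_append (n := 690) rels_upTo5 rels_chunk6

theorem rels_upTo7 : ∀ i < 805 + 115, cert.relOk i = true :=
  allUpTo_append (n := 805) rels_upTo6 rels_chunk7

theorem rels_upTo8 : ∀ i < 920 + 115, cert.relOk i = true :=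
  allUpTo_append (n := 920) rels_upTo7 rels_chunk8

theorem rels_upTo9 : ∀ i < 1035 + 115, cert.relOk i = true :=
  allUpTo_append (n := 1035) rels_upTo8 rels_chunk9

theorem rels_upTo10 : ∀ i < 1150 + 115, cert.relOk i = true :=
  allUpTo_append (n := 1150) rels_upTo9 rels_chunk10

theorem rels_upTo11 : ∀ i < 1265 + 115, cert.relOk i = true :=
  allUpTo_append (n := 1265) rels_upTo10 rels_chunk11

theorem rels_upTo12 : ∀ i < 1380 + 115, cert.relOk i = true :=
  allUpTo_append (n := 1380) rels_upTo11 rels_chunk12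

theorem rels_upTo13 : ∀ i < 1495 + 115, cert.relOk i = true :=
  allUpTo_append (n := 1495) rels_upTo12 rels_chunk13

theorem rels_upTo14 : ∀ i < 1610 + 115, cert.relOk i = true :=
  allUpTo_append (n := 1610) rels_upTo13 rels_chunk14

theorem rels_upTo15 : ∀ i < 1725 + 115, cert.relOk i = true :=
  allUpTo_append (n := 1725) rels_upTo14 rels_chunk15

theorem rels_upTo16 : ∀ i < 1840 + 115, cert.relOk i = true :=
  allUpTo_append (n := 1840) rels_upTo15 rels_chunk16

theorem rels_upTo17 : ∀ i < 1955 + 115, cert.relOk i = true :=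
  allUpTo_append (n := 1955) rels_upTo16 rels_chunk17

theorem rels_upTo18 : ∀ i < 2070 + 115, cert.relOk i = true :=
  allUpTo_append (n := 2070) rels_upTo17 rels_chunk18

theorem rels_upTo19 : ∀ i < 2185 + 115, cert.relOk i = true :=
  allUpTo_append (n := 2185) rels_upTo18 rels_chunk19

theorem rels_upTo20 : ∀ i < 2300 + 115, cert.relOk i = true :=
  allUpTo_append (n := 2300) rels_upTo19 rels_chunk20

theorem rels_upTo21 : ∀ i < 2415 + 115, cert.relOk i = true :=
  allUpTo_append (n := 2415) rels_upTo20 rels_chunk21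

theorem rels_upTo22 : ∀ i < 2530 + 115, cert.relOk i = true :=
  allUpTo_append (n := 2530) rels_upTo21 rels_chunk22

theorem rels_upTo23 : ∀ i < 2645 + 115, cert.relOk i = true :=
  allUpTo_append (n := 2645) rels_upTo22 rels_chunk23

theorem rels_upTo24 : ∀ i < 2760 + 115, cert.relOk i = true :=
  allUpTo_append (n := 2760) rels_upTo23 rels_chunk24

theorem rels_upTo25 : ∀ i < 2875 + 115, cert.relOk i = true :=
  allUpTo_append (n := 2875) rels_upTo24 rels_chunk25

theorem rels_upTo26 : ∀ i < 2990 + 115, cert.relOk i = true :=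
  allUpTo_append (n := 2990) rels_upTo25 rels_chunk26

theorem rels_upTo27 : ∀ i < 3105 + 115, cert.relOk i = true :=
  allUpTo_append (n := 3105) rels_upTo26 rels_chunk27

theorem rels_upTo28 : ∀ i < 3220 + 115, cert.relOk i = true :=
  allUpTo_append (n := 3220) rels_upTo27 rels_chunk28

theorem rels_upTo29 : ∀ i < 3335 + 115, cert.relOk i = true :=
  allUpTo_append (n := 3335) rels_upTo28 rels_chunk29

theorem rels_upTo30 : ∀ i < 3450 + 115, cert.relOk i = true :=
  allUpTo_append (n := 3450) rels_upTo29 rels_chunk30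

theorem rels_upTo31 : ∀ i < 3565 + 115, cert.relOk i = true :=
  allUpTo_append (n := 3565) rels_upTo30 rels_chunk31

theorem rels_upTo32 : ∀ i < 3680 + 115, cert.relOk i = true :=
  allUpTo_append (n := 3680) rels_upTo31 rels_chunk32

theorem rels_upTo33 : ∀ i < 3795 + 115, cert.relOk i = true :=
  allUpTo_append (n := 3795) rels_upTo32 rels_chunk33

theorem rels_upTo34 : ∀ i < 3910 + 115, cert.relOk i = true :=
  allUpTo_append (n := 3910) rels_upTo33 rels_chunk34

theorem rels_upTo35 : ∀ i < 4025 + 115, cert.relOk i = true :=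
  allUpTo_append (n := 4025) rels_upTo34 rels_chunk35

theorem rels_upTo36 : ∀ i < 4140 + 115, cert.relOk i = true :=
  allUpTo_append (n := 4140) rels_upTo35 rels_chunk36

theorem rels_upTo37 : ∀ i < 4255 + 115, cert.relOk i = true :=
  allUpTo_append (n := 4255) rels_upTo36 rels_chunk37

theorem rels_upTo38 : ∀ i < 4370 + 115, cert.relOk i = true :=
  allUpTo_append (n := 4370) rels_upTo37 rels_chunk38

theorem rels_upTo39 : ∀ i < 4485 + 115, cert.relOk i = true :=
  allUpTo_append (n := 4485) rels_upTo38 rels_chunk39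

theorem rels_upTo40 : ∀ i < 4600 + 115, cert.relOk i = true :=
  allUpTo_append (n := 4600) rels_upTo39 rels_chunk40

theorem rels_upTo41 : ∀ i < 4715 + 115, cert.relOk i = true :=
  allUpTo_append (n := 4715) rels_upTo40 rels_chunk41

theorem rels_upTo42 : ∀ i < 4830 + 115, cert.relOk i = true :=
  allUpTo_append (n := 4830) rels_upTo41 rels_chunk42

theorem rels_upTo43 : ∀ i < 4945 + 115, cert.relOk i = true :=
  allUpTo_append (n := 4945) rels_upTo42 rels_chunk43

theorem rels_upTo44 : ∀ i < 5060 + 115, cert.relOk i = true :=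
  allUpTo_append (n := 5060) rels_upTo43 rels_chunk44

theorem rels_upTo45 : ∀ i < 5175 + 115, cert.relOk i = true :=
  allUpTo_append (n := 5175) rels_upTo44 rels_chunk45

theorem rels_upTo46 : ∀ i < 5290 + 115, cert.relOk i = true :=
  allUpTo_append (n := 5290) rels_upTo45 rels_chunk46

theorem rels_upTo47 : ∀ i < 5405 + 115, cert.relOk i = true :=
  allUpTo_append (n := 5405) rels_upTo46 rels_chunk47

theorem rels_upTo48 : ∀ i < 5520 + 115, cert.relOk i = true :=
  allUpTo_append (n := 5520) rels_upTo47 rels_chunk48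

theorem rels_upTo49 : ∀ i < 5635 + 115, cert.relOk i = true :=
  allUpTo_append (n := 5635) rels_upTo48 rels_chunk49

theorem rels_upTo50 : ∀ i < 5750 + 115, cert.relOk i = true :=
  allUpTo_append (n := 5750) rels_upTo49 rels_chunk50

theorem rels_upTo51 : ∀ i < 5865 + 115, cert.relOk i = true :=
  allUpTo_append (n := 5865) rels_upTo50 rels_chunk51

theorem rels_upTo52 : ∀ i < 5980 + 115, cert.relOk i = true :=
  allUpTo_append (n := 5980) rels_upTo51 rels_chunk52

theorem rels_upTo53 : ∀ i < 6095 + 115, cert.relOk i = true :=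
  allUpTo_append (n := 6095) rels_upTo52 rels_chunk53

theorem rels_upTo54 : ∀ i < 6210 + 115, cert.relOk i = true :=
  allUpTo_append (n := 6210) rels_upTo53 rels_chunk54

theorem rels_upTo55 : ∀ i < 6325 + 115, cert.relOk i = true :=
  allUpTo_append (n := 6325) rels_upTo54 rels_chunk55

theorem rels_upTo56 : ∀ i < 6440 + 115, cert.relOk i = true :=
  allUpTo_append (n := 6440) rels_upTo55 rels_chunk56

theorem rels_upTo57 : ∀ i < 6555 + 115, cert.relOk i = true :=
  allUpTo_append (n := 6555) rels_upTo56 rels_chunk57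

theorem rels_upTo58 : ∀ i < 6670 + 115, cert.relOk i = true :=
  allUpTo_append (n := 6670) rels_upTo57 rels_chunk58

theorem rels_upTo59 : ∀ i < 6785 + 115, cert.relOk i = true :=
  allUpTo_append (n := 6785) rels_upTo58 rels_chunk59

theorem rels_upTo60 : ∀ i < 6900 + 115, cert.relOk i = true :=
  allUpTo_append (n := 6900) rels_upTo59 rels_chunk60

theorem rels_upTo61 : ∀ i < 7015 + 115, cert.relOk i = true :=
  allUpTo_append (n := 7015) rels_upTo60 rels_chunk61

theorem rels_upTo62 : ∀ i < 7130 + 115, cert.relOk i = true :=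
  allUpTo_append (n := 7130) rels_upTo61 rels_chunk62

theorem rels_upTo63 : ∀ i < 7245 + 115, cert.relOk i = true :=
  allUpTo_append (n := 7245) rels_upTo62 rels_chunk63

theorem rels_upTo64 : ∀ i < 7360 + 115, cert.relOk i = true :=
  allUpTo_append (n := 7360) rels_upTo63 rels_chunk64

theorem rels_upTo65 : ∀ i < 7475 + 115, cert.relOk i = true :=
  allUpTo_append (n := 7475) rels_upTo64 rels_chunk65

theorem rels_upTo66 : ∀ i < 7590 + 115, cert.relOk i = true :=
  allUpTo_append (n := 7590) rels_upTo65 rels_chunk66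

theorem rels_upTo67 : ∀ i < 7705 + 115, cert.relOk i = true :=
  allUpTo_append (n := 7705) rels_upTo66 rels_chunk67

theorem rels_upTo68 : ∀ i < 7820 + 115, cert.relOk i = true :=
  allUpTo_append (n := 7820) rels_upTo67 rels_chunk68

theorem rels_upTo69 : ∀ i < 7935 + 115, cert.relOk i = true :=
  allUpTo_append (n := 7935) rels_upTo68 rels_chunk69

theorem rels_upTo70 : ∀ i < 8050 + 115, cert.relOk i = true :=
  allUpTo_append (n := 8050) rels_upTo69 rels_chunk70

theorem rels_upTo71 : ∀ i < 8165 + 115, cert.relOk i = true :=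
  allUpTo_append (n := 8165) rels_upTo70 rels_chunk71

theorem rels_upTo72 : ∀ i < 8280 + 115, cert.relOk i = true :=
  allUpTo_append (n := 8280) rels_upTo71 rels_chunk72

theorem rels_upTo73 : ∀ i < 8395 + 115, cert.relOk i = true :=
  allUpTo_append (n := 8395) rels_upTo72 rels_chunk73

theorem rels_upTo74 : ∀ i < 8510 + 115, cert.relOk i = true :=
  allUpTo_append (n := 8510) rels_upTo73 rels_chunk74

theorem rels_upTo75 : ∀ i < 8625 + 115, cert.relOk i = true :=
  allUpTo_append (n := 8625) rels_upTo74 rels_chunk75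

theorem rels_upTo76 : ∀ i < 8740 + 115, cert.relOk i = true :=
  allUpTo_append (n := 8740) rels_upTo75 rels_chunk76

theorem rels_upTo77 : ∀ i < 8855 + 115, cert.relOk i = true :=
  allUpTo_append (n := 8855) rels_upTo76 rels_chunk77

theorem rels_upTo78 : ∀ i < 8970 + 115, cert.relOk i = true :=
  allUpTo_append (n := 8970) rels_upTo77 rels_chunk78

theorem rels_upTo79 : ∀ i < 9085 + 115, cert.relOk i = true :=
  allUpTo_append (n := 9085) rels_upTo78 rels_chunk79

theorem rels_upTo80 : ∀ i < 9200 + 115, cert.relOk i = true :=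
  allUpTo_append (n := 9200) rels_upTo79 rels_chunk80

theorem rels_upTo81 : ∀ i < 9315 + 115, cert.relOk i = true :=
  allUpTo_append (n := 9315) rels_upTo80 rels_chunk81

theorem rels_upTo82 : ∀ i < 9430 + 115, cert.relOk i = true :=
  allUpTo_append (n := 9430) rels_upTo81 rels_chunk82

theorem rels_upTo83 : ∀ i < 9545 + 115, cert.relOk i = true :=
  allUpTo_append (n := 9545) rels_upTo82 rels_chunk83

theorem rels_upTo84 : ∀ i < 9660 + 115, cert.relOk i = true :=
  allUpTo_append (n := 9660) rels_upTo83 rels_chunk84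

theorem rels_upTo85 : ∀ i < 9775 + 115, cert.relOk i = true :=
  allUpTo_append (n := 9775) rels_upTo84 rels_chunk85

theorem rels_upTo86 : ∀ i < 9890 + 115, cert.relOk i = true :=
  allUpTo_append (n := 9890) rels_upTo85 rels_chunk86

theorem rels_upTo87 : ∀ i < 10005 + 115, cert.relOk i = true :=
  allUpTo_append (n := 10005) rels_upTo86 rels_chunk87

theorem rels_upTo88 : ∀ i < 10120 + 115, cert.relOk i = true :=
  allUpTo_append (n := 10120) rels_upTo87 rels_chunk88

theorem rels_upTo89 : ∀ i < 10235 + 115, cert.relOk i = true :=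
  allUpTo_append (n := 10235) rels_upTo88 rels_chunk89

theorem rels_upTo90 : ∀ i < 10350 + 115, cert.relOk i = true :=
  allUpTo_append (n := 10350) rels_upTo89 rels_chunk90

theorem rels_upTo91 : ∀ i < 10465 + 115, cert.relOk i = true :=
  allUpTo_append (n := 10465) rels_upTo90 rels_chunk91

theorem rels_upTo92 : ∀ i < 10580 + 115, cert.relOk i = true :=
  allUpTo_append (n := 10580) rels_upTo91 rels_chunk92

theorem rels_upTo93 : ∀ i < 10695 + 115, cert.relOk i = true :=
  allUpTo_append (n := 10695) rels_upTo92 rels_chunk93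

theorem rels_upTo94 : ∀ i < 10810 + 115, cert.relOk i = true :=
  allUpTo_append (n := 10810) rels_upTo93 rels_chunk94

theorem rels_upTo95 : ∀ i < 10925 + 115, cert.relOk i = true :=
  allUpTo_append (n := 10925) rels_upTo94 rels_chunk95

theorem rels_upTo96 : ∀ i < 11040 + 115, cert.relOk i = true :=
  allUpTo_append (n := 11040) rels_upTo95 rels_chunk96

theorem rels_upTo97 : ∀ i < 11155 + 115, cert.relOk i = true :=
  allUpTo_append (n := 11155) rels_upTo96 rels_chunk97

theorem rels_upTo98 : ∀ i < 11270 + 115, cert.relOk i = true :=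
  allUpTo_append (n := 11270) rels_upTo97 rels_chunk98

theorem rels_upTo99 : ∀ i < 11385 + 115, cert.relOk i = true :=
  allUpTo_append (n := 11385) rels_upTo98 rels_chunk99

theorem rels_upTo100 : ∀ i < 11500 + 115, cert.relOk i = true :=
  allUpTo_append (n := 11500) rels_upTo99 rels_chunk100

theorem rels_upTo101 : ∀ i < 11615 + 115, cert.relOk i = true :=
  allUpTo_append (n := 11615) rels_upTo100 rels_chunk101

theorem rels_upTo102 : ∀ i < 11730 + 115, cert.relOk i = true :=
  allUpTo_append (n := 11730) rels_upTo101 rels_chunk102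

theorem rels_upTo103 : ∀ i < 11845 + 115, cert.relOk i = true :=
  allUpTo_append (n := 11845) rels_upTo102 rels_chunk103

theorem rels_upTo104 : ∀ i < 11960 + 115, cert.relOk i = true :=
  allUpTo_append (n := 11960) rels_upTo103 rels_chunk104

theorem rels_upTo105 : ∀ i < 12075 + 115, cert.relOk i = true :=
  allUpTo_append (n := 12075) rels_upTo104 rels_chunk105

theorem rels_upTo106 : ∀ i < 12190 + 115, cert.relOk i = true :=
  allUpTo_append (n := 12190) rels_upTo105 rels_chunk106

theorem rels_upTo107 : ∀ i < 12305 + 115, cert.relOk i = true :=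
  allUpTo_append (n := 12305) rels_upTo106 rels_chunk107

theorem rels_upTo108 : ∀ i < 12420 + 115, cert.relOk i = true :=
  allUpTo_append (n := 12420) rels_upTo107 rels_chunk108

theorem rels_upTo109 : ∀ i < 12535 + 115, cert.relOk i = true :=
  allUpTo_append (n := 12535) rels_upTo108 rels_chunk109

theorem rels_upTo110 : ∀ i < 12650 + 115, cert.relOk i = true :=
  allUpTo_append (n := 12650) rels_upTo109 rels_chunk110

theorem rels_upTo111 : ∀ i < 12765 + 115, cert.relOk i = true :=
  allUpTo_append (n := 12765) rels_upTo110 rels_chunk111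

theorem rels_upTo112 : ∀ i < 12880 + 115, cert.relOk i = true :=
  allUpTo_append (n := 12880) rels_upTo111 rels_chunk112

theorem rels_upTo113 : ∀ i < 12995 + 115, cert.relOk i = true :=
  allUpTo_append (n := 12995) rels_upTo112 rels_chunk113

theorem rels_upTo114 : ∀ i < 13110 + 115, cert.relOk i = true :=
  allUpTo_append (n := 13110) rels_upTo113 rels_chunk114

theorem rels_upTo115 : ∀ i < 13225 + 115, cert.relOk i = true :=
  allUpTo_append (n := 13225) rels_upTo114 rels_chunk115

theorem rels_upTo116 : ∀ i < 13340 + 115, cert.relOk i = true :=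
  allUpTo_append (n := 13340) rels_upTo115 rels_chunk116

theorem rels_upTo117 : ∀ i < 13455 + 115, cert.relOk i = true :=
  allUpTo_append (n := 13455) rels_upTo116 rels_chunk117

theorem rels_upTo118 : ∀ i < 13570 + 115, cert.relOk i = true :=
  allUpTo_append (n := 13570) rels_upTo117 rels_chunk118

theorem rels_upTo119 : ∀ i < 13685 + 115, cert.relOk i = true :=
  allUpTo_append (n := 13685) rels_upTo118 rels_chunk119

theorem rels_upTo120 : ∀ i < 13800 + 115, cert.relOk i = true :=
  allUpTo_append (n := 13800) rels_upTo119 rels_chunk120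

theorem rels_upTo121 : ∀ i < 13915 + 115, cert.relOk i = true :=
  allUpTo_append (n := 13915) rels_upTo120 rels_chunk121

theorem rels_upTo122 : ∀ i < 14030 + 50, cert.relOk i = true :=
  allUpTo_append (n := 14030) rels_upTo121 rels_chunk122

theorem back_upTo0 : ∀ i < 0 + 8000, cert.backOk i = true :=
  allUpTo_append (n := 0) (fun i hi => absurd hi (Nat.not_lt_zero i)) back_chunk0

theorem back_upTo1 : ∀ i < 8000 + 6080, cert.backOk i = true :=
  allUpTo_append (n := 8000) back_upTo0 back_chunk1

theorem imgs_upTo0 : ∀ i < 0 + 8000, cert.imgOk i = true :=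
  allUpTo_append (n := 0) (fun i hi => absurd hi (Nat.not_lt_zero i)) imgs_chunk0

theorem imgs_upTo1 : ∀ i < 8000 + 7236, cert.imgOk i = true :=
  allUpTo_append (n := 8000) imgs_upTo0 imgs_chunk1

theorem checked : cert.Checked where
  items := items_upTo16
  close := close_upTo31
  rels := rels_upTo122
  back := back_upTo1
  imgs := imgs_upTo1
  base := by decide +kernel
  small := by decide +kernel

end Cfsg.Agent.Lib.CosetEnum.Fi22O7
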